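import Groth.Agent.Coherent.K54.PushH1
import Groth.Agent.Coherent.K55.Aff4
import Groth.Agent.Dcoh.ResFree

/-!
# The direct image of a flat family over the open where the first cohomology module is free

`GoodAt π F y`: some data computing the sections of `π_* F` and all its base changes over an affine
neighbourhood of `y` has free first cohomology module at `y`.  Over an open set of such points `π_* F` is
finite locally free and it commutes with every base change into the set; points with `H^1(X_y, F_y) = 0`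
are good.
-/

set_option autoImplicit false
universe u

open AlgebraicGeometry CategoryTheory CategoryTheory.Limits Scheme.Modules TensorProduct

namespace K255.GoodPush

open Groth.Agent Groth.Agent.CohqA.PullbackUniv Groth.Agent.CohqA.PullbackAffine
  Groth.Agent.CohqA.PullbackSections Groth.Agent.CohqA.AffineBaseChange
  Groth.Agent.CohqA.BaseChangeMod Groth.Agent.CohqA.PullbackQCoh Groth.Agent.Ega3B K55 K55.Pack K55.KerAlg
  K54.PushSec K54.PushBC K54.PushH1

variable {X Y : Scheme.{u}} (π : X ⟶ Y) (F : X.Modules)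

/-- The point `y` is good for degree-0 base change. -/
def GoodAt (y : Y) : Prop :=
  ∃ (V : Y.Opens) (hV : IsAffineOpen V) (hy : y ∈ V) (K : CxData Γ(Y, V)),
    SecData π F K ∧ hV.primeIdealOf ⟨y, hy⟩ ∈ Module.freeLocus Γ(Y, V) (K.O 1)

/-- Points with vanishing `H^1` of the fibre are good. -/
theorem goodAt_of_subsingleton [IsProper π] [LocallyOfFinitePresentation π] (hF : Coh.IsQCoh F)
    (hfp : CohB1.IsFP F) (hfl : FlatMod.IsFlatOver π F) (y : Y)
    (h : Subsingleton (CohIII.fiberH π F y 1)) : GoodAt π F y := by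
  obtain ⟨V, hV, hyV, -⟩ := exists_isAffineOpen_mem_and_subset (x := y) (U := ⊤) trivial
  obtain ⟨K, hK⟩ := exists_compData π F hfp hfl hV
  have h1 := subsingleton_HB π F hF hV K hK ⟨y, hyV⟩ 1 h
  exact ⟨V, hV, hyV, K, secData π F hV K hK,
    (of_subsingleton_ker (K.exact 1) (K.surj 1) (hV.primeIdealOf ⟨y, hyV⟩) h1).2.1⟩

/-- Base change for every morphism into the good locus. -/
theorem isUniv_of_goodAt [QuasiCompact π] [QuasiSeparated π] (hF : Coh.IsQCoh F)
    {X' Z : Scheme.{u}} (f : X' ⟶ X) (ζ : X' ⟶ Z) (α : Z ⟶ Y) (h : IsPullback f ζ π α)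
    (hz : ∀ z : Z, GoodAt π F (α z)) : IsUniv α (pushSquare π α f ζ h.w (pbUnit f F)) := by
  have hM : ((pushforward π).obj F).IsQuasicoherent := Ega1.QcqsPush.isQCoh_pushforward π F hF
  have hF' : F.IsQuasicoherent := hF
  have i1 : QuasiCompact ζ := MorphismProperty.of_isPullback h inferInstance
  have i2 : QuasiSeparated ζ := MorphismProperty.of_isPullback h inferInstance
  have hN : ((pushforward ζ).obj ((Scheme.Modules.pullback f).obj F)).IsQuasicoherent :=
    Ega1.QcqsPush.isQCoh_pushforward _ _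
      (isQuasicoherent_of_isUniv f (pbUnit f F) (isUniv_pbUnit f F))
  refine isUniv_of_isBC_cover α _ fun z => ?_
  obtain ⟨V, hV, hy, K, ⟨t₀, ht⟩, hm⟩ := hz z
  obtain ⟨g, hyg, hg⟩ := exists_basic hV ⟨α z, hy⟩ hm
  obtain ⟨_, ⟨V', hV', rfl⟩, hzV, hVU⟩ := Z.isBasis_affineOpens.exists_subset_of_mem_open
    (show z ∈ (α ⁻¹ᵁ Y.basicOpen g : Set Z) from hyg) (α ⁻¹ᵁ Y.basicOpen g).isOpen
  have hle : V' ≤ α ⁻¹ᵁ (Y.basicOpen g) := hVU
  have e : V' ≤ α ⁻¹ᵁ V := hle.trans (α.preimage_mono (Y.basicOpen_le g))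
  have hb := isBaseChange_res hV K g hg α e hle
  have ht' := ht f ζ α h V' hV' e
  refine ⟨V, V', hV, hV', e, hzV, ?_⟩
  exact isBC_of_res' (α.appLE V V' e).hom K _ t₀ ht' hb

/-- Restrictions to open subschemes: being finite locally free is local. -/
theorem isFinLocFree_restrict_of_local {M : Y.Modules} (U : Y.Opens)
    (h : ∀ x ∈ U, ∃ W : Y.Opens, x ∈ W ∧ FlatMod.IsFinLocFree (M.restrict W.ι)) :
    FlatMod.IsFinLocFree (M.restrict U.ι) := by
  refine Dcoh.ResFree.isFinLocFree_of_local fun x => ?_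
  obtain ⟨W, hxW, hW⟩ := h x.1 x.2
  have h1 : Y.homOfLE (inf_le_right : W ⊓ U ≤ U) ≫ U.ι = (W ⊓ U).ι := by simp
  have h2 : Y.homOfLE (inf_le_left : W ⊓ U ≤ W) ≫ W.ι = (W ⊓ U).ι := by simp
  have h3 : FlatMod.IsFinLocFree ((M.restrict W.ι).restrict (Y.homOfLE (inf_le_left : W ⊓ U ≤ W))) :=
    Dcoh.ResFree.isFinLocFree_restrict hW _
  have h4 : FlatMod.IsFinLocFree (M.restrict (W ⊓ U).ι) :=
    PerfA.PerfLocal.isFinLocFree_of_iso (Dcoh.ResFree.restrictComp M _ W.ι _ h2) h3
  refine ⟨(W ⊓ U).toScheme, Y.homOfLE inf_le_right, inferInstance, ⟨x.1, hxW, x.2⟩, ?_,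
    PerfA.PerfLocal.isFinLocFree_of_iso (Dcoh.ResFree.restrictComp M _ U.ι _ h1).symm h4⟩
  apply Subtype.ext
  have h5 := congr($(h1) ⟨x.1, hxW, x.2⟩)
  exact h5

/-- Local freeness over the good locus. -/
theorem isFinLocFree_restrict_of_goodAt [QuasiCompact π] [QuasiSeparated π] (hF : Coh.IsQCoh F)
    (U : Y.Opens) (hU : ∀ y ∈ U, GoodAt π F y) :
    FlatMod.IsFinLocFree (((pushforward π).obj F).restrict U.ι) := by
  refine isFinLocFree_restrict_of_local U fun y hy => ?_
  obtain ⟨V, hV, hyV, K, hs, hm⟩ := hU y hy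
  obtain ⟨U', hyU, hU', -⟩ := K54.PushBC.exists_nhd π F hF hV K hs ⟨y, hyV⟩ hm
  exact ⟨U', hyU, hU'⟩

/-- Local freeness if all points are good. -/
theorem isFinLocFree_of_goodAt [QuasiCompact π] [QuasiSeparated π] (hF : Coh.IsQCoh F)
    (hU : ∀ y, GoodAt π F y) : FlatMod.IsFinLocFree ((pushforward π).obj F) := by
  refine Dcoh.ResFree.isFinLocFree_of_local fun y => ?_
  obtain ⟨V, hV, hyV, K, hs, hm⟩ := hU y
  obtain ⟨U', hyU, hU', -⟩ := K54.PushBC.exists_nhd π F hF hV K hs ⟨y, hyV⟩ hm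
  exact ⟨U', U'.ι, inferInstance, ⟨y, hyU⟩, rfl, hU'⟩

section Higher

/-- The set of points of an affine open at which the fibre has vanishing `H^j`, `j ≥ 1`, is open. -/
theorem exists_nhd_of_forall [IsProper π] [LocallyOfFinitePresentation π] (hfp : CohB1.IsFP F)
    (hfl : FlatMod.IsFlatOver π F) (y : Y)
    (h : ∀ j : ℕ, 1 ≤ j → Subsingleton (CohIII.fiberH π F y j)) :
    ∃ U : Y.Opens, y ∈ U ∧ ∀ t ∈ U, ∀ j : ℕ, 1 ≤ j → Subsingleton (CohIII.fiberH π F t j) := by
  obtain ⟨V, hV, hyV, -⟩ := exists_isAffineOpen_mem_and_subset (x := y) (U := ⊤) trivial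
  obtain ⟨K, hK⟩ := K55.PackV.exists_packV π F hfp hfl hV
  have hiff : ∀ (t : V) (j : ℕ), Subsingleton (CohIII.fiberH π F t.1 j) ↔
      Subsingleton (LinearMap.ker ((K.u j).baseChange (hV.primeIdealOf t).asIdeal.ResidueField)) :=
    fun t j => by
      obtain ⟨θ₀, hθ⟩ := hK j
      exact K55.Aff.subsingleton_iff (hθ.2.2 t)
  obtain ⟨N, hN⟩ := K.bound
  have hev : ∀ᶠ x in nhds (hV.primeIdealOf ⟨y, hyV⟩), ∀ j ∈ Finset.Icc 1 N,
      Subsingleton (LinearMap.ker ((K.u j).baseChange x.asIdeal.ResidueField)) := by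
    rw [Filter.eventually_all_finset]
    intro j hj
    exact (isOpen_subsingleton (K.exact j) (K.surj j)).mem_nhds
      ((hiff ⟨y, hyV⟩ j).1 (h j (Finset.mem_Icc.1 hj).1))
  obtain ⟨r, hyr, -, hr⟩ := K55.Aff.exists_basicOpen_of_eventually hV ⟨y, hyV⟩ hev
  refine ⟨Y.basicOpen r, hyr, fun t ht j hj => ?_⟩
  have htV : t ∈ V := Y.basicOpen_le r ht
  rw [hiff ⟨t, htV⟩ j]
  rcases le_total j N with hjN | hjN
  · exact hr t htV ht j (Finset.mem_Icc.2 ⟨hj, hjN⟩)
  · have h1 : Subsingleton (K.O j) := hN j hjN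
    have h2 : Subsingleton ((hV.primeIdealOf ⟨t, htV⟩).asIdeal.ResidueField ⊗[Γ(Y, V)] K.O j) := by
      refine subsingleton_of_forall_eq 0 fun z => ?_
      induction z with
      | zero => rfl
      | tmul a b => rw [Subsingleton.elim b 0, TensorProduct.tmul_zero]
      | add a b ha hb => rw [ha, hb, add_zero]
    exact inferInstance

/-- A module whose localisations all vanish. -/
theorem subsingleton_of_forall_prime {A : Type u} [CommRing A] {M : Type u} [AddCommGroup M] [Module A M]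
    (h : ∀ p : PrimeSpectrum A, Subsingleton (Localization.AtPrime p.asIdeal ⊗[A] M)) :
    Subsingleton M := by
  rw [← Module.support_eq_empty_iff (R := A)]
  refine Set.eq_empty_iff_forall_notMem.2 fun p hp => ?_
  rw [Module.mem_support_iff] at hp
  have := h p
  exact not_subsingleton_iff_nontrivial.2 hp
    ((LocalizedModule.equivTensorProduct p.asIdeal.primeCompl M).toEquiv.subsingleton)

/-- Sections of `R^j π_* F` vanish over affine opens over which the fibres have no `H^j`. -/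
theorem subsingleton_sections [IsProper π] [LocallyOfFinitePresentation π]
    [HasInjectiveResolutions X.Modules] {V : Y.Opens} (hV : IsAffineOpen V) (hF : Coh.IsQCoh F) (hfp : CohB1.IsFP F)
    (hfl : FlatMod.IsFlatOver π F) (j : ℕ)
    (h : ∀ t ∈ V, Subsingleton (CohIII.fiberH π F t j)) :
    Subsingleton Γ((Coh.Rpush π j).obj F, V) := by
  obtain ⟨K, hK⟩ := exists_compData π F hfp hfl hV
  obtain ⟨e⟩ := exists_linearEquiv_Rpush π F hF hV K hK j
  have h1 : Subsingleton (K.H j) := by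
    refine subsingleton_of_forall_prime (A := Γ(Y, V)) fun p => ?_
    have h2 : Subsingleton (K.HB j p.asIdeal.ResidueField) := by
      have := subsingleton_HB π F hF hV K hK ⟨hV.fromSpec p, SpecPoint.fromSpec_mem hV p⟩ j
        (h _ (SpecPoint.fromSpec_mem hV p))
      rwa [SpecPoint.primeIdealOf_fromSpec] at this
    exact (of_subsingleton_ker (K.exact j) (K.surj j) p h2).2.2
  exact e.toEquiv.subsingleton

end Higher

/-- `R^j π_* F` restricts to zero over an open over which the fibres have no `H^j`. -/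
theorem isZero_restrict [IsProper π] [LocallyOfFinitePresentation π]
    [HasInjectiveResolutions X.Modules] (hF : Coh.IsQCoh F) (hfp : CohB1.IsFP F)
    (hfl : FlatMod.IsFlatOver π F) (j : ℕ) (U : Y.Opens)
    (h : ∀ t ∈ U, Subsingleton (CohIII.fiberH π F t j)) :
    IsZero (((Coh.Rpush π j).obj F).restrict U.ι) := by
  have hM : Coh.IsQCoh ((Coh.Rpush π j).obj F) := CohqA.RelCoh.isQCoh_Rpush π F hF j
  refine CurvesB.NodalRpush.isZero_of_sections _ (Groth.Agent.CohqB.LocalQC.isQCoh_restrict U.ι hM)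
    fun V hV => ?_
  have hV' : IsAffineOpen (U.ι ''ᵁ V) := hV.image_of_isOpenImmersion U.ι
  exact subsingleton_sections π F hV' hF hfp hfl j fun t ht => by
    obtain ⟨s, -, rfl⟩ := ht
    exact h _ s.2

end K255.GoodPush
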